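import Groth.Agent.Lib.PointBlowUp32.DivPart
import Groth.Agent.Lib.PointBlowUp32.Principal
import Groth.Agent.Lib.EffCartier.Basic
import Groth.Agent.Lib.HTop26.AlmostBlowUp
import Groth.Agent.Lib.BlowUpFib6.Basic
import Mathlib.AlgebraicGeometry.Morphisms.SchemeTheoreticallyDominant

/-!
# Effective Cartier ideals on integral schemes from principal stalks
-/

set_option autoImplicit false
set_option linter.style.haveILetI false
set_option linter.unusedSectionVars false
set_option backward.isDefEq.respectTransparency false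
set_option maxHeartbeats 1000000

universe u

open CategoryTheory CategoryTheory.Limits AlgebraicGeometry TopologicalSpace

noncomputable section

namespace Groth.Agent.CurveBlowUp

open DivDesc12

variable {X : Scheme.{u}} [IsIntegral X] [IsLocallyNoetherian X]

/-- A nonzero ideal sheaf with principal stalks is effective Cartier. -/
theorem isEffCartierIdeal_of_stI {I : X.IdealSheafData} (hI : genericPoint X ∉ I.support)
    (h : ∀ x : X, (stI I x).IsPrincipal) : BlowUp.IsEffCartierIdeal I := by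
  classical
  intro x
  obtain ⟨U, hU, hx⟩ := exists_affine x
  letI := X.presheaf.algebra_section_stalk (⟨x, hx⟩ : U)
  haveI := hU.isLocalization_stalk ⟨x, hx⟩
  haveI : Nonempty U := ⟨⟨x, hx⟩⟩
  haveI : IsDomain Γ(X, U) := IsIntegral.component_integral _
  haveI : IsNoetherianRing Γ(X, U) := IsLocallyNoetherian.component_noetherian ⟨U, hU⟩
  let p := (hU.primeIdealOf ⟨x, hx⟩).asIdeal
  have hst : stI I x = (I.ideal ⟨U, hU⟩).map (algebraMap Γ(X, U) (X.presheaf.stalk x)) :=
    stI_eq I ⟨U, hU⟩ hx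
  obtain ⟨c, hc⟩ := (h x).principal
  have hcm : c ∈ stI I x := hc ▸ Submodule.mem_span_singleton_self c
  rw [hst] at hcm
  obtain ⟨⟨⟨a, ha⟩, s⟩, he⟩ := (IsLocalization.mem_map_algebraMap_iff p.primeCompl _).1 hcm
  have hspan : stI I x = Ideal.span {algebraMap Γ(X, U) (X.presheaf.stalk x) a} := by
    rw [hc]
    exact Ideal.span_singleton_eq_span_singleton.2
      ⟨(IsLocalization.map_units (X.presheaf.stalk x) s).unit, he⟩
  obtain ⟨T, hT⟩ := (IsNoetherian.noetherian (I.ideal ⟨U, hU⟩))
  have hg : ∀ g ∈ I.ideal ⟨U, hU⟩, ∃ t ∈ p.primeCompl, t * g ∈ Ideal.span {a} := fun g hg => by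
    have hmem : algebraMap Γ(X, U) (X.presheaf.stalk x) g ∈
        (Ideal.span {a}).map (algebraMap Γ(X, U) (X.presheaf.stalk x)) := by
      rw [Ideal.map_span, Set.image_singleton, ← hspan, hst]
      exact Ideal.mem_map_of_mem _ hg
    exact (IsLocalization.algebraMap_mem_map_algebraMap_iff p.primeCompl _ _ _).1 hmem
  choose t htp ht using fun g : T => hg g.1 (hT ▸ Submodule.subset_span g.2)
  let t0 : Γ(X, U) := ∏ g, t g
  have ht0 : t0 ∈ p.primeCompl := Submonoid.prod_mem _ fun g _ => htp g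
  have hle : ∀ g ∈ I.ideal ⟨U, hU⟩, t0 * g ∈ Ideal.span {a} := by
    intro g hg
    rw [← hT] at hg
    induction hg using Submodule.span_induction with
    | mem g hg =>
      have hd : t ⟨g, hg⟩ ∣ t0 := Finset.dvd_prod_of_mem _ (Finset.mem_univ _)
      obtain ⟨r, hr⟩ := hd
      rw [hr, mul_comm (t ⟨g, hg⟩) r, mul_assoc]
      exact Ideal.mul_mem_left _ _ (ht ⟨g, hg⟩)
    | zero => rw [mul_zero]; exact Submodule.zero_mem _
    | add u v _ _ hu hv => rw [mul_add]; exact Submodule.add_mem _ hu hv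
    | smul r u _ hu => rw [smul_eq_mul, mul_left_comm]; exact Ideal.mul_mem_left _ _ hu
  have hxW : x ∈ X.basicOpen t0 :=
    (Scheme.mem_basicOpen X t0 x hx).2 (IsLocalization.map_units (X.presheaf.stalk x) (⟨t0, ht0⟩ : p.primeCompl))
  haveI : Nonempty (X.basicOpen t0) := ⟨⟨x, hxW⟩⟩
  haveI : IsDomain Γ(X, X.basicOpen t0) := IsIntegral.component_integral _
  haveI : IsDomain Γ(X, (X.affineBasicOpen (U := ⟨U, hU⟩) t0).1) := ‹IsDomain Γ(X, X.basicOpen t0)›
  let ρ := X.presheaf.map (homOfLE (X.basicOpen_le t0)).op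
  refine ⟨X.affineBasicOpen (U := ⟨U, hU⟩) t0, hxW, ρ a, mem_nonZeroDivisors_of_ne_zero fun h0 => ?_, ?_⟩
  · have ha0 : a = 0 := map_injective_of_isIntegral X (homOfLE (X.basicOpen_le t0)) (h0.trans (map_zero _).symm)
    have ht00 : t0 ≠ 0 := fun e => ht0 (e ▸ p.zero_mem)
    have hbot : I.ideal ⟨U, hU⟩ = ⊥ := (Submodule.eq_bot_iff _).2 fun g hg => by
      have := hle g hg
      rw [ha0, Ideal.span_singleton_eq_bot.2 rfl, Ideal.mem_bot] at this
      exact (mul_eq_zero.1 this).resolve_left ht00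
    refine hI ?_
    rw [Scheme.IdealSheafData.mem_support_iff_of_mem (U := ⟨U, hU⟩)
      (((genericPoint_spec X).mem_open_set_iff U.2).2 ⟨x, trivial, hx⟩), Scheme.mem_zeroLocus_iff]
    intro f hf hmem
    rw [hbot] at hf
    rw [show f = 0 from hf, Scheme.basicOpen_zero] at hmem
    exact hmem
  · rw [← I.map_ideal_basicOpen ⟨U, hU⟩ t0]
    refine le_antisymm (Ideal.map_le_iff_le_comap.2 fun g hg => ?_)
      ((Ideal.span_singleton_le_iff_mem _).2 (Ideal.mem_map_of_mem _ ha))
    have hu : IsUnit (ρ t0) := RingedSpace.isUnit_res_basicOpen _ _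
    have := Ideal.mem_map_of_mem ρ.hom (hle g hg)
    rw [Ideal.map_span, Set.image_singleton, map_mul] at this
    exact (Ideal.unit_mul_mem_iff_mem _ hu).1 this

/-- A nonzero ideal sheaf on an integral scheme with principal ideal local rings is effective Cartier. -/
theorem isEffCartierIdeal_of_pid {I : X.IdealSheafData} (hI : genericPoint X ∉ I.support)
    (h : ∀ x : X, IsPrincipalIdealRing (X.presheaf.stalk x)) : BlowUp.IsEffCartierIdeal I :=
  isEffCartierIdeal_of_stI hI fun x => haveI := h x; IsPrincipalIdealRing.principal _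

/-- A closed point whose ideal is effective Cartier has principal maximal ideal. -/
theorem isPrincipal_maximalIdeal {z : X} (hz : IsClosed ({z} : Set X))
    (h : BlowUp.IsEffCartierIdeal (PointBlowUp.ptIdeal hz)) :
    (IsLocalRing.maximalIdeal (X.presheaf.stalk z)).IsPrincipal := by
  obtain ⟨U, hzU, f, -, hf⟩ := h z
  rw [← PointBlowUp.stI_ptIdeal hz, stI_eq _ U hzU, hf, Ideal.map_span, Set.image_singleton]
  exact ⟨⟨_, rfl⟩⟩

section Reduced

variable {W : Scheme.{u}} [IsLocallyNoetherian W]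

omit [IsIntegral X] [IsLocallyNoetherian X] in
/-- Principal stalks give a locally principal ideal sheaf. -/
theorem isLocPrincipal_of_stI {I : W.IdealSheafData} (h : ∀ x : W, (stI I x).IsPrincipal) : HTop.IsLocPrincipal I := by
  classical
  intro x
  obtain ⟨U, hU, hx⟩ := exists_affine x
  letI := W.presheaf.algebra_section_stalk (⟨x, hx⟩ : U)
  haveI := hU.isLocalization_stalk ⟨x, hx⟩
  haveI : IsNoetherianRing Γ(W, U) := IsLocallyNoetherian.component_noetherian ⟨U, hU⟩
  let p := (hU.primeIdealOf ⟨x, hx⟩).asIdeal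
  have hst : stI I x = (I.ideal ⟨U, hU⟩).map (algebraMap Γ(W, U) (W.presheaf.stalk x)) :=
    stI_eq I ⟨U, hU⟩ hx
  obtain ⟨c, hc⟩ := (h x).principal
  have hcm : c ∈ stI I x := hc ▸ Submodule.mem_span_singleton_self c
  rw [hst] at hcm
  obtain ⟨⟨⟨a, ha⟩, s⟩, he⟩ := (IsLocalization.mem_map_algebraMap_iff p.primeCompl _).1 hcm
  have hspan : stI I x = Ideal.span {algebraMap Γ(W, U) (W.presheaf.stalk x) a} := by
    rw [hc]
    show Ideal.span {c} = _
    rw [← he, Ideal.span_singleton_mul_right_unit (IsLocalization.map_units (W.presheaf.stalk x) s)]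
  obtain ⟨T, hT⟩ := (IsNoetherian.noetherian (I.ideal ⟨U, hU⟩))
  have hg : ∀ g ∈ I.ideal ⟨U, hU⟩, ∃ t ∈ p.primeCompl, t * g ∈ Ideal.span {a} := fun g hg => by
    have hmem : algebraMap Γ(W, U) (W.presheaf.stalk x) g ∈
        (Ideal.span {a}).map (algebraMap Γ(W, U) (W.presheaf.stalk x)) := by
      rw [Ideal.map_span, Set.image_singleton, ← hspan, hst]
      exact Ideal.mem_map_of_mem _ hg
    exact (IsLocalization.algebraMap_mem_map_algebraMap_iff p.primeCompl _ _ _).1 hmem
  choose t htp ht using fun g : T => hg g.1 (hT ▸ Submodule.subset_span g.2)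
  let t0 : Γ(W, U) := ∏ g, t g
  have ht0 : t0 ∈ p.primeCompl := Submonoid.prod_mem _ fun g _ => htp g
  have hle : ∀ g ∈ I.ideal ⟨U, hU⟩, t0 * g ∈ Ideal.span {a} := by
    intro g hg
    rw [← hT] at hg
    induction hg using Submodule.span_induction with
    | mem g hg =>
      obtain ⟨r, hr⟩ : t ⟨g, hg⟩ ∣ t0 := Finset.dvd_prod_of_mem _ (Finset.mem_univ _)
      rw [hr, mul_comm (t ⟨g, hg⟩) r, mul_assoc]
      exact Ideal.mul_mem_left _ _ (ht ⟨g, hg⟩)
    | zero => rw [mul_zero]; exact Submodule.zero_mem _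
    | add u v _ _ hu hv => rw [mul_add]; exact Submodule.add_mem _ hu hv
    | smul r u _ hu => rw [smul_eq_mul, mul_left_comm]; exact Ideal.mul_mem_left _ _ hu
  have hxW : x ∈ W.basicOpen t0 :=
    (Scheme.mem_basicOpen W t0 x hx).2 (IsLocalization.map_units (W.presheaf.stalk x) (⟨t0, ht0⟩ : p.primeCompl))
  let ρ := W.presheaf.map (homOfLE (W.basicOpen_le t0)).op
  refine ⟨W.affineBasicOpen (U := ⟨U, hU⟩) t0, hxW, ρ a, ?_⟩
  rw [← I.map_ideal_basicOpen ⟨U, hU⟩ t0]
  refine le_antisymm (Ideal.map_le_iff_le_comap.2 fun g hg => ?_)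
    ((Ideal.span_singleton_le_iff_mem _).2 (Ideal.mem_map_of_mem _ ha))
  have hu : IsUnit (ρ t0) := RingedSpace.isUnit_res_basicOpen _ _
  have := Ideal.mem_map_of_mem ρ.hom (hle g hg)
  rw [Ideal.map_span, Set.image_singleton, map_mul] at this
  exact (Ideal.unit_mul_mem_iff_mem _ hu).1 this

omit [IsIntegral X] [IsLocallyNoetherian X] [IsLocallyNoetherian W] in
/-- On a reduced scheme a locally principal ideal avoiding all maximal points is effective Cartier. -/
theorem isEffCartierIdeal_of_reduced [IsReduced W] {I : W.IdealSheafData} (h : HTop.IsLocPrincipal I)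
    (hmax : ∀ a : W, (∀ b, b ⤳ a → b = a) → a ∉ I.support) : BlowUp.IsEffCartierIdeal I := by
  haveI := HTop26.quasiCompact_cmpl h
  haveI : IsDominant (EffCartier.cmpl I).ι := ⟨fun x => by
    obtain ⟨ζ, hζ, hζx⟩ := BlowUpFib6.exists_maximal_generization x
    rw [Scheme.Opens.range_ι]
    exact specializes_iff_mem_closure.1 hζx |> closure_mono (Set.singleton_subset_iff.2 (hmax ζ hζ))⟩
  haveI : IsSchemeTheoreticallyDominant (EffCartier.cmpl I).ι := IsSchemeTheoreticallyDominant.of_isDominant _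
  exact HTop26.isEffCartierIdeal_of_dominant h

end Reduced

end Groth.Agent.CurveBlowUp
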