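import Groth.Agent.Lib.CurveBlowUp32.Cartier
import Groth.Agent.Lib.PointBlowUp32.Seq
import Groth.Agent.Lib.BlowUpFib6.Basic
import Groth.Agent.Lib.BlowUpExist.Proper
import Groth.Agent.Lib.DivDesc12.Point
import Groth.Agent.Lib.DVRVal.Curve
import Groth.Agent.Lib.AlgSpDecent.DimMor
import Groth.Agent.Lib.VB17.Setup
import Groth.Prelude.Def_ResolveSeq
import Mathlib.AlgebraicGeometry.ZariskisMainTheorem
import Mathlib.Data.DFinsupp.WellFounded

/-!
# Resolving a one dimensional scheme by point blowups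
-/

set_option autoImplicit false
set_option linter.style.haveILetI false
set_option linter.unusedSectionVars false
set_option backward.isDefEq.respectTransparency false
set_option maxHeartbeats 1000000

universe u

open CategoryTheory CategoryTheory.Limits AlgebraicGeometry TopologicalSpace

noncomputable section

namespace Groth.Agent.CurveBlowUp

theorem generic_mem {Y : Scheme.{u}} [IrreducibleSpace Y] {V : Y.Opens} (hV : (V : Set Y).Nonempty) :
    genericPoint Y ∈ V :=
  (genericPoint_spec Y).mem_open_set_iff V.isOpen |>.2 (by simpa using hV)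

theorem not_isClosed_generic {Y : Scheme.{u}} [IrreducibleSpace Y] (hdim : topologicalKrullDim Y = 1) :
    ¬ IsClosed ({genericPoint Y} : Set Y) := fun h => by
  haveI : Subsingleton Y :=
    ⟨fun a b => (Set.mem_singleton_iff.1 ((genericPoint_specializes a).mem_closed h rfl)).trans
      (Set.mem_singleton_iff.1 ((genericPoint_specializes b).mem_closed h rfl)).symm⟩
  haveI : Subsingleton (IrreducibleCloseds Y) := ⟨fun A B => IrreducibleCloseds.ext (by
    obtain ⟨a, ha⟩ := A.isIrreducible'.nonempty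
    obtain ⟨b, hb⟩ := B.isIrreducible'.nonempty
    ext x
    exact ⟨fun _ => Subsingleton.elim b x ▸ hb, fun _ => Subsingleton.elim a x ▸ ha⟩)⟩
  have : topologicalKrullDim Y ≤ 0 := Order.krullDim_nonpos_of_subsingleton
  rw [hdim] at this
  exact not_lt.2 this zero_lt_one

theorem isIso_restrict_of_le {X Y : Scheme.{u}} (f : X ⟶ Y) {U W : Y.Opens} [IsIso (f ∣_ U)] (h : W ≤ U) :
    IsIso (f ∣_ W) := by
  have h1 : IsIso ((f ∣_ U) ∣_ (U.ι ⁻¹ᵁ W)) :=
    IsZariskiLocalAtTarget.restrict (P := MorphismProperty.isomorphisms Scheme) (inferInstanceAs (IsIso (f ∣_ U))) _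
  refine ((MorphismProperty.isomorphisms Scheme.{u}).arrow_mk_iso_iff
    (morphismRestrictRestrict f U (U.ι ⁻¹ᵁ W) ≪≫ eqToIso ?_)).1 h1
  rw [Scheme.Hom.image_preimage_eq_opensRange_inf, Scheme.Opens.opensRange_ι, inf_eq_right.2 h]

section Sequence

variable {X Y : Scheme.{u}} {g : X ⟶ Y}

/-- A sequence of point blowups of a one dimensional integral scheme is a modification. -/
theorem of_seq (hg : Resolve.IsPtBlowupSeq g) : ∀ [IsIntegral Y] [IsLocallyNoetherian Y],
    ¬ IsClosed ({genericPoint Y} : Set Y) →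
    IsProper g ∧ IsIntegral X ∧ ∃ V : Y.Opens, (V : Set Y).Nonempty ∧ IsIso (g ∣_ V) := by
  induction hg with
  | @iso X Y e =>
    intro _ _ _
    haveI : IrreducibleSpace X := (Scheme.homeoOfIso e.symm).surjective.irreducibleSpace
      (Scheme.homeoOfIso e.symm).continuous
    exact ⟨inferInstance, isIntegral_of_isOpenImmersion e.hom, ⊤, ⟨genericPoint Y, trivial⟩,
      IsZariskiLocalAtTarget.restrict (P := MorphismProperty.isomorphisms Scheme) (inferInstanceAs (IsIso e.hom)) ⊤⟩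
  | @step X Z Y b r z hz hb hr ih =>
    intro _ _ hη
    obtain ⟨hp, hZ, V, hV, hiso⟩ := ih hη
    haveI := hp; haveI := hZ; haveI := hiso
    haveI : IsLocallyNoetherian Z := LocallyOfFiniteType.isLocallyNoetherian r
    haveI := PointBlowUp.isProper hz hb
    haveI := PointBlowUp.isIso_restrict hz hb
    have hcl : IsClosed ({r z} : Set Y) := by
      rw [← Set.image_singleton]
      exact r.isClosedMap _ hz
    let U : Y.Opens := V ⊓ ⟨{r z}ᶜ, hcl.isOpen_compl⟩
    have hUne : (U : Set Y).Nonempty := ⟨genericPoint Y, generic_mem hV, fun h => hη (by rwa [show r z = genericPoint Y from h.symm] at hcl)⟩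
    have hle : r ⁻¹ᵁ U ≤ (⟨{z}ᶜ, hz.isOpen_compl⟩ : Z.Opens) := fun w hw e => hw.2 (by rw [show w = z from e]; rfl)
    haveI h1 : IsIso (b ∣_ (r ⁻¹ᵁ U)) := isIso_restrict_of_le b hle
    haveI h2 : IsIso (r ∣_ U) := isIso_restrict_of_le r inf_le_left
    haveI h3 : IsIso ((b ≫ r) ∣_ U) := by rw [morphismRestrict_comp]; infer_instance
    haveI : Nonempty X := by
      obtain ⟨a, -⟩ := ((b ≫ r) ∣_ U).surjective ⟨_, hUne.some_mem⟩
      exact ⟨((b ≫ r) ⁻¹ᵁ U).ι a⟩
    obtain ⟨hX, -⟩ := BlowUpFib6.isIntegral_of_isBlowUp hb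
    exact ⟨inferInstance, hX, U, hUne, h3⟩

end Sequence

/-- Injectivity of sections for a dominant map to a reduced scheme. -/
theorem appLE_injective {N Z : Scheme.{u}} (h : N ⟶ Z) [QuasiCompact h] [IsDominant h] [IsReduced Z] {W : Z.Opens} {W' : N.Opens}
    (e : W' = h ⁻¹ᵁ W) : Function.Injective (h.appLE W W' e.le) := by
  subst e
  haveI : IsSchemeTheoreticallyDominant h := IsSchemeTheoreticallyDominant.of_isDominant h
  rw [← Scheme.Hom.app_eq_appLE]
  exact h.app_injective W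

theorem appTop_surjective_of_app {X Z : Scheme.{u}} (b : X ⟶ Z) (W : Z.Opens)
    (hs : Function.Surjective (b.app W)) : Function.Surjective (b ∣_ W).appTop := by
  show Function.Surjective ((b ∣_ W).app ⊤)
  rw [morphismRestrict_app]
  refine (ConcreteCategory.bijective_of_isIso (X.presheaf.map (eqToHom _).op)).surjective.comp ?_
  have key : ∀ W', W' = W → Function.Surjective (b.app W') := fun _ e => e ▸ hs
  exact key _ (Scheme.Opens.ι_image_top W)

variable {N Y : Scheme.{u}} (ν : N ⟶ Y)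

/-- An intermediate scheme between `N` and `Y`. -/
structure Stage where
  Z : Scheme.{u}
  r : Z ⟶ Y
  h : N ⟶ Z
  fac : h ≫ r = ν
  seq : Resolve.IsPtBlowupSeq r
  finite : IsFinite r
  integral : IsIntegral Z
  birational : ∃ V : Y.Opens, (V : Set Y).Nonempty ∧ IsIso (r ∣_ V)

variable {ν}

theorem Stage.le (P : Stage ν) (U : Y.Opens) : ν ⁻¹ᵁ U ≤ P.h ⁻¹ᵁ (P.r ⁻¹ᵁ U) := by
  rw [← Scheme.Hom.comp_preimage, P.fac]

theorem Stage.eq (P : Stage ν) (U : Y.Opens) : ν ⁻¹ᵁ U = P.h ⁻¹ᵁ (P.r ⁻¹ᵁ U) := by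
  rw [← Scheme.Hom.comp_preimage, P.fac]

/-- The sections of the stage, inside those of `N`. -/
def Stage.sections (P : Stage ν) (U : Y.Opens) :
    letI := (ν.app U).hom.toAlgebra
    Submodule Γ(Y, U) Γ(N, ν ⁻¹ᵁ U) :=
  letI := (ν.app U).hom.toAlgebra
  { carrier := Set.range (P.h.appLE (P.r ⁻¹ᵁ U) (ν ⁻¹ᵁ U) (P.le U))
    add_mem' := by rintro _ _ ⟨a, rfl⟩ ⟨b, rfl⟩; exact ⟨a + b, map_add _ _ _⟩
    zero_mem' := ⟨0, map_zero _⟩
    smul_mem' := by
      rintro c _ ⟨a, rfl⟩
      refine ⟨P.r.app U c * a, ?_⟩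
      rw [map_mul, Algebra.smul_def]
      congr 1
      show (P.r.app U ≫ P.h.appLE (P.r ⁻¹ᵁ U) (ν ⁻¹ᵁ U) (P.le U)) c = ν.app U c
      rw [Scheme.Hom.app_eq_appLE, Scheme.Hom.appLE_comp_appLE, Scheme.Hom.app_eq_appLE]
      simp only [P.fac] }

/-- If every stage sees only finitely many sections, point blowups resolve. -/
theorem exists_seq [IsIntegral Y] [IsNoetherian Y] [IsFinite ν] [IsIntegral N]
    (hN : ∀ n : N, IsPrincipalIdealRing (N.presheaf.stalk n)) (hgen : ν (genericPoint N) = genericPoint Y)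
    (hdim : topologicalKrullDim Y = 1) :
    ∃ (Y' : Scheme.{u}) (g : Y' ⟶ Y), Resolve.IsPtBlowupSeq g ∧ ∀ y : Y', IsRegularLocalRing (Y'.presheaf.stalk y) := by
  classical
  have hη := not_isClosed_generic hdim
  obtain ⟨t, ht⟩ := (isCompact_univ (X := Y)).elim_finite_subcover (fun U : Y.affineOpens => (U.1 : Set Y))
    (fun U => U.1.2) (by
      intro y _
      obtain ⟨U, hU, hy⟩ := DivDesc12.exists_affine y
      exact Set.mem_iUnion.2 ⟨⟨U, hU⟩, hy⟩)
  letI alg : ∀ U : t, Algebra Γ(Y, U.1.1) Γ(N, ν ⁻¹ᵁ U.1.1) := fun U => (ν.app U.1.1).hom.toAlgebra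
  haveI : ∀ U : t, IsNoetherian Γ(Y, U.1.1) Γ(N, ν ⁻¹ᵁ U.1.1) := fun U => by
    haveI : IsNoetherianRing Γ(Y, U.1.1) := IsLocallyNoetherian.component_noetherian U.1
    haveI : Module.Finite Γ(Y, U.1.1) Γ(N, ν ⁻¹ᵁ U.1.1) := ν.finite_app U.1.1 U.1.2
    exact isNoetherian_of_isNoetherianRing_of_finite _ _
  let m : Stage ν → ∀ U : t, (Submodule Γ(Y, U.1.1) Γ(N, ν ⁻¹ᵁ U.1.1))ᵒᵈ :=
    fun P U => OrderDual.toDual (P.sections U.1.1)
  suffices ∀ v, ∀ P : Stage ν, m P = v →
      ∃ (Y' : Scheme.{u}) (g : Y' ⟶ Y), Resolve.IsPtBlowupSeq g ∧ ∀ y : Y', IsRegularLocalRing (Y'.presheaf.stalk y) by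
    exact this _ ⟨Y, 𝟙 Y, ν, Category.comp_id ν, Resolve.IsPtBlowupSeq.iso (Iso.refl Y), inferInstance, inferInstance,
      ⊤, ⟨genericPoint Y, trivial⟩, IsZariskiLocalAtTarget.restrict (P := MorphismProperty.isomorphisms Scheme)
        (inferInstanceAs (IsIso (𝟙 Y))) ⊤⟩ rfl
  intro v
  induction v using WellFoundedLT.induction with
  | ind v ih =>
  rintro ⟨Z, r, h, hfac, hseq, hfin, hint, V, hV, hiso⟩ hv
  haveI := hfin; haveI := hint; haveI := hiso
  by_cases hall : ∀ z : Z, IsRegularLocalRing (Z.presheaf.stalk z)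
  · exact ⟨Z, r, hseq, hall⟩
  push Not at hall
  obtain ⟨z, hreg⟩ := hall
  haveI : IsLocallyNoetherian Z := LocallyOfFiniteType.isLocallyNoetherian r
  haveI : IsFinite (h ≫ r) := by rw [hfac]; infer_instance
  haveI : IsFinite h := IsFinite.of_comp h r
  have hhgen : h (genericPoint N) = genericPoint Z := by
    obtain ⟨a, ha⟩ := (r ∣_ V).surjective ⟨_, generic_mem hV⟩
    have hra : r ((r ⁻¹ᵁ V).ι a) = genericPoint Y := by
      rw [← Scheme.Hom.comp_apply, ← morphismRestrict_ι, Scheme.Hom.comp_apply, ha]; rfl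
    have hrh : r (h (genericPoint N)) = genericPoint Y := by rw [← Scheme.Hom.comp_apply, hfac, hgen]
    have hrξ : r (genericPoint Z) = genericPoint Y := by
      have hs : r (genericPoint Z) ⤳ r ((r ⁻¹ᵁ V).ι a) := (genericPoint_specializes _).map r.continuous
      rw [hra] at hs
      exact (hs.antisymm (genericPoint_specializes _)).eq
    exact PointBlowUp.eq_of_restrict r V (hrh ▸ generic_mem hV) (hrh.trans hrξ.symm)
  haveI : IsDominant h := ⟨fun w => by
    have : closure {genericPoint Z} ⊆ closure (Set.range h) :=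
      closure_mono (Set.singleton_subset_iff.2 ⟨_, hhgen⟩)
    exact this (by rw [genericPoint_closure]; trivial)⟩
  haveI : Surjective h := ⟨by
    rw [← Set.range_eq_univ, ← h.isClosedMap.isClosed_range.closure_eq]
    exact h.denseRange.closure_range⟩
  have hdimZ : ∀ w : Z, ringKrullDim (Z.presheaf.stalk w) ≤ 1 := fun w =>
    (VB17.ringKrullDim_stalk_le_topologicalKrullDim w).trans
      ((AlgSpDecent.topologicalKrullDim_le_of_lqf r).trans hdim.le)
  have hzη : z ≠ genericPoint Z := by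
    rintro rfl
    exact hreg (inferInstanceAs (IsRegularLocalRing Z.functionField))
  have hz : IsClosed ({z} : Set Z) := by
    by_contra hn
    obtain ⟨c, hc, hcz⟩ : ∃ c, z ⤳ c ∧ c ≠ z := by
      by_contra h'
      push Not at h'
      refine hn ?_
      rw [← closure_eq_iff_isClosed]
      refine Set.Subset.antisymm (fun c hc => h' c (specializes_iff_mem_closure.2 hc)) subset_closure
    haveI : Ring.KrullDimLE 1 (Z.presheaf.stalk c) := Ring.krullDimLE_iff.2 (by exact_mod_cast hdimZ c)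
    have hbot : DivDesc12.primeAt hc = ⊥ := by
      haveI : (DivDesc12.primeAt hc).IsPrime := Ideal.IsPrime.comap _
      by_contra hb
      exact hcz (DivDesc12.eq_of_primeAt_eq specializes_rfl hc (by
        rw [DivDesc12.primeAt_self]
        exact IsLocalRing.eq_maximalIdeal (Ring.krullDimLE_one_iff_of_noZeroDivisors.1 inferInstance _ hb inferInstance))).symm
    exact hzη ((DivDesc12.specializes_of_primeAt_le (genericPoint_specializes c) hc (hbot ▸ bot_le)).antisymm
      (genericPoint_specializes z)).eq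
  have hsupp : genericPoint Z ∉ (PointBlowUp.ptIdeal hz).support := fun e => hzη (by
    have e' : genericPoint Z ∈ ((PointBlowUp.ptIdeal hz).support : Set Z) := e
    rw [PointBlowUp.coe_support_ptIdeal hz] at e'
    exact (show genericPoint Z = z from e').symm)
  obtain ⟨X, b, hb⟩ : ∃ (X : Scheme.{u}) (b : X ⟶ Z), BlowUp.IsBlowUp b (PointBlowUp.ptIdeal hz) :=
    ⟨_, _, BlowUpExist.ChartIdx.isBlowUp_blowUpHom (C := PointBlowUp.ptIdeal hz)⟩
  haveI : IsLocallyNoetherian N := LocallyOfFiniteType.isLocallyNoetherian ν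
  obtain ⟨h', hh', -⟩ := hb.2 N h (isEffCartierIdeal_of_pid (by
    rw [Scheme.IdealSheafData.support_comap]
    show h (genericPoint N) ∉ (PointBlowUp.ptIdeal hz).support
    rw [hhgen]
    exact hsupp) hN)
  obtain ⟨hp, hX, V', hV', hiso'⟩ := of_seq (Resolve.IsPtBlowupSeq.step b r z hz hb hseq) hη
  haveI := hp; haveI := hX; haveI := hiso'
  have hfac' : h' ≫ b ≫ r = ν := by rw [← Category.assoc, hh', hfac]
  haveI hh'fin : IsFinite h' := by
    haveI : IsFinite (h' ≫ b ≫ r) := by rw [hfac']; infer_instance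
    exact IsFinite.of_comp h' (b ≫ r)
  have hh'gen : h' (genericPoint N) = genericPoint X := by
    have h1 : (b ≫ r) (h' (genericPoint N)) = genericPoint Y := by rw [← Scheme.Hom.comp_apply, hfac', hgen]
    obtain ⟨a, ha⟩ := ((b ≫ r) ∣_ V').surjective ⟨_, generic_mem hV'⟩
    have hra : (b ≫ r) (((b ≫ r) ⁻¹ᵁ V').ι a) = genericPoint Y := by
      rw [← Scheme.Hom.comp_apply, ← morphismRestrict_ι, Scheme.Hom.comp_apply, ha]; rfl
    have hrξ : (b ≫ r) (genericPoint X) = genericPoint Y := by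
      have hs : (b ≫ r) (genericPoint X) ⤳ (b ≫ r) (((b ≫ r) ⁻¹ᵁ V').ι a) :=
        (genericPoint_specializes _).map (b ≫ r).continuous
      rw [hra] at hs
      exact (hs.antisymm (genericPoint_specializes _)).eq
    exact PointBlowUp.eq_of_restrict (b ≫ r) V' (h1 ▸ generic_mem hV') (h1.trans hrξ.symm)
  haveI : IsDominant h' := ⟨fun w => by
    have : closure {genericPoint X} ⊆ closure (Set.range h') :=
      closure_mono (Set.singleton_subset_iff.2 ⟨_, hh'gen⟩)
    exact this (by rw [genericPoint_closure]; trivial)⟩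
  haveI : Surjective h' := ⟨by
    rw [← Set.range_eq_univ, ← h'.isClosedMap.isClosed_range.closure_eq]
    exact h'.denseRange.closure_range⟩
  haveI : IsFinite (b ≫ r) := by
    haveI : LocallyQuasiFinite (b ≫ r) := locallyQuasiFinite_iff_finite_preimage_singleton.2 fun y => by
      refine ((ν.finite_preimage_singleton y).image h').subset fun w hw => ?_
      obtain ⟨n, rfl⟩ := h'.surjective w
      refine ⟨n, ?_, rfl⟩
      show ν n = y
      rw [← hfac']
      exact hw
    exact IsFinite.of_isProper_of_locallyQuasiFinite _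
  let P : Stage ν := ⟨Z, r, h, hfac, hseq, hfin, hint, V, hV, hiso⟩
  let P' : Stage ν :=
    ⟨X, b ≫ r, h', hfac', Resolve.IsPtBlowupSeq.step b r z hz hb hseq, inferInstance, hX, V', hV', hiso'⟩
  have hmono : ∀ U : Y.Opens, ∀ a : Γ(Z, r ⁻¹ᵁ U),
      h'.appLE ((b ≫ r) ⁻¹ᵁ U) (ν ⁻¹ᵁ U) (P'.le U) (b.app (r ⁻¹ᵁ U) a) =
        h.appLE (r ⁻¹ᵁ U) (ν ⁻¹ᵁ U) (P.le U) a := fun U a => by
    show (b.app (r ⁻¹ᵁ U) ≫ h'.appLE ((b ≫ r) ⁻¹ᵁ U) (ν ⁻¹ᵁ U) (P'.le U)) a = _
    rw [Scheme.Hom.app_eq_appLE]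
    erw [Scheme.Hom.appLE_comp_appLE]
    simp only [hh']
  refine ih (m P') ?_ P' rfl
  subst hv
  refine lt_of_le_of_ne (fun U => ?_) fun heq => ?_
  · rintro _ ⟨a, rfl⟩
    exact ⟨b.app (r ⁻¹ᵁ U.1.1) a, hmono U.1.1 a⟩
  haveI : IsAffineHom b := by
    haveI : IsAffineHom (b ≫ r) := inferInstance
    exact IsAffineHom.of_comp b r
  have hsurj : ∀ U : t, Function.Surjective (b.app (r ⁻¹ᵁ U.1.1)) := fun U a' => by
    have hmem : h'.appLE ((b ≫ r) ⁻¹ᵁ U.1.1) (ν ⁻¹ᵁ U.1.1) (P'.le _) a' ∈ P'.sections U.1.1 := ⟨a', rfl⟩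
    rw [show P'.sections U.1.1 = P.sections U.1.1 from OrderDual.toDual.injective (congrFun heq U)] at hmem
    obtain ⟨a, ha⟩ := hmem
    refine ⟨a, appLE_injective h' (W := (b ≫ r) ⁻¹ᵁ U.1.1) (P'.eq U.1.1) ?_⟩
    exact (hmono U.1.1 a).trans ha
  haveI : IsClosedImmersion b := by
    refine (IsZariskiLocalAtTarget.iff_of_iSup_eq_top (P := @IsClosedImmersion) (fun U : t => r ⁻¹ᵁ U.1.1) ?_).2 fun U => ?_
    · refine eq_top_iff.2 fun w _ => ?_
      obtain ⟨U, hU, hw⟩ := Set.mem_iUnion₂.1 (ht (Set.mem_univ (r w)))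
      exact Opens.mem_iSup.2 ⟨⟨U, hU⟩, hw⟩
    have hW : IsAffineOpen (r ⁻¹ᵁ U.1.1) := U.1.2.preimage r
    haveI : IsAffine (r ⁻¹ᵁ U.1.1 : Scheme) := hW
    refine (HasAffineProperty.iff_of_isAffine (P := @IsClosedImmersion)).2 ⟨hW.preimage b, ?_⟩
    exact appTop_surjective_of_app b _ (hsurj U)
  haveI : Surjective b := ⟨fun w => by
    obtain ⟨n, hn⟩ := h.surjective w
    exact ⟨h' n, by rw [← Scheme.Hom.comp_apply, hh']; exact hn⟩⟩
  haveI : IsIso b := isIso_of_isClosedImmersion_of_surjective b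
  have hcart : BlowUp.IsEffCartierIdeal (PointBlowUp.ptIdeal hz) := by
    have := DivDesc12.isEffCartier_comap (inv b) hb.1
    rwa [← Scheme.IdealSheafData.comap_comp, IsIso.inv_hom_id, Scheme.IdealSheafData.comap_id] at this
  refine hreg ?_
  have e : IsPrincipalIdealRing (Z.presheaf.stalk z) ↔ (IsLocalRing.maximalIdeal (Z.presheaf.stalk z)).IsPrincipal :=
    (tfae_of_isNoetherianRing_of_isLocalRing_of_isDomain _).out 0 4
  haveI : IsPrincipalIdealRing (Z.presheaf.stalk z) := e.2 (isPrincipal_maximalIdeal hz hcart)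
  infer_instance

end Groth.Agent.CurveBlowUp
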