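import Groth.Agent.Lib.CurveBlowUp32.Main
import Groth.Agent.Lib.CurveBlowUp32.Cartier
import Groth.Agent.Lib.SchImage14.Immersion
import Groth.Agent.Lib.RedSep.Basic

/-!
# Embedded resolution of curves by point blowups
-/

set_option autoImplicit false
set_option linter.style.haveILetI false
set_option linter.unusedSectionVars false
set_option backward.isDefEq.respectTransparency false
set_option maxHeartbeats 1000000

universe u

open CategoryTheory CategoryTheory.Limits AlgebraicGeometry TopologicalSpace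

noncomputable section

namespace Groth.Agent.CurveBlowUp

open DivDesc12 PointBlowUp

theorem isProper_seq {X Y : Scheme.{u}} {g : X ⟶ Y} (hg : Resolve.IsPtBlowupSeq g) :
    ∀ [IsLocallyNoetherian Y], IsProper g := by
  induction hg with
  | iso e => intro _; infer_instance
  | @step X Z Y b r z hz hb hr ih =>
    intro _
    haveI : IsProper r := ih
    haveI : IsLocallyNoetherian Z := LocallyOfFiniteType.isLocallyNoetherian r
    haveI := PointBlowUp.isProper hz hb
    infer_instance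

/-- A reduced Noetherian local ring with principal maximal ideal is a regular domain. -/
theorem regular_domain_of_principal (R : Type u) [CommRing R] [IsLocalRing R] [IsNoetherianRing R] [_root_.IsReduced R]
    (h : (IsLocalRing.maximalIdeal R).IsPrincipal) : IsDomain R ∧ IsRegularLocalRing R := by
  obtain ⟨t, ht⟩ := h.principal
  have ht' : IsLocalRing.maximalIdeal R = Ideal.span {t} := ht
  have key : ∀ a : R, a ≠ 0 → ∃ n v, IsUnit v ∧ a = v * t ^ n := by
    intro a ha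
    have hex : ∃ n, a ∉ Ideal.span {t ^ n} := by
      by_contra h'
      push Not at h'
      refine ha ?_
      have : a ∈ ⨅ i : ℕ, IsLocalRing.maximalIdeal R ^ i := Submodule.mem_iInf _ |>.2 fun i => by
        rw [ht', Ideal.span_singleton_pow]; exact h' i
      rwa [Ideal.iInf_pow_eq_bot_of_isLocalRing _ (IsLocalRing.maximalIdeal.isMaximal R).ne_top, Submodule.mem_bot] at this
    classical
    have h0 : Nat.find hex ≠ 0 := fun e => Nat.find_spec hex (by rw [e, pow_zero, Ideal.span_singleton_one]; trivial)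
    obtain ⟨m, hm⟩ := Nat.exists_eq_succ_of_ne_zero h0
    have hmem : a ∈ Ideal.span {t ^ m} := not_not.1 (Nat.find_min hex (by omega))
    obtain ⟨v, hv⟩ := Ideal.mem_span_singleton'.1 hmem
    refine ⟨m, v, ?_, hv.symm⟩
    have hspec := Nat.find_spec hex
    by_contra hv'
    have hvt : v ∈ Ideal.span {t} := ht' ▸ hv'
    obtain ⟨w, rfl⟩ := Ideal.mem_span_singleton'.1 hvt
    exact hspec (Ideal.mem_span_singleton'.2 ⟨w, by rw [hm, ← hv, pow_succ', mul_assoc]⟩)
  haveI : NoZeroDivisors R := ⟨fun {a b} hab => by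
    by_contra h'
    push Not at h'
    obtain ⟨n, v, hv, rfl⟩ := key a h'.1
    obtain ⟨m, w, hw, rfl⟩ := key b h'.2
    have h0 : t ^ (n + m) = 0 := by
      rw [mul_mul_mul_comm, ← pow_add] at hab
      exact (hv.mul hw).mul_right_eq_zero.1 hab
    have htz : t = 0 := (IsNilpotent.mk t (n + m) h0).eq_zero
    have hn : n = 0 := by
      by_contra hn
      exact h'.1 (by rw [htz, zero_pow hn, mul_zero])
    have hm : m = 0 := by
      by_contra hm
      exact h'.2 (by rw [htz, zero_pow hm, mul_zero])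
    rw [hn, hm, pow_zero] at h0
    exact one_ne_zero h0⟩
  haveI : IsDomain R := NoZeroDivisors.to_isDomain R
  have e : IsPrincipalIdealRing R ↔ (IsLocalRing.maximalIdeal R).IsPrincipal :=
    (tfae_of_isNoetherianRing_of_isLocalRing_of_isDomain R).out 0 4
  haveI : IsPrincipalIdealRing R := e.2 h
  exact ⟨inferInstance, inferInstance⟩

/-- No chain of three distinct specializations. -/
def Short (N : Scheme.{u}) : Prop := ∀ a b c : N, a ⤳ b → b ⤳ c → a = b ∨ b = c

theorem short_image {N Z : Scheme.{u}} (hN : Short N) (h : N ⟶ Z) [UniversallyClosed h] [Surjective h] : Short Z := by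
  intro a b c hab hbc
  obtain ⟨a', rfl⟩ := h.surjective a
  obtain ⟨b', hb', rfl⟩ := h.isClosedMap.specializingMap hab
  obtain ⟨c', hc', rfl⟩ := h.isClosedMap.specializingMap hbc
  rcases hN a' b' c' hb' hc' with rfl | rfl
  · exact Or.inl rfl
  · exact Or.inr rfl

theorem isClosed_or_maximal {Z : Scheme.{u}} (hZ : Short Z) (z : Z) :
    IsClosed ({z} : Set Z) ∨ ∀ b, b ⤳ z → b = z := by
  by_cases hcl : IsClosed ({z} : Set Z)
  · exact Or.inl hcl
  refine Or.inr fun b hb => ?_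
  obtain ⟨c, hc, hcz⟩ : ∃ c, z ⤳ c ∧ c ≠ z := by
    by_contra h'
    push Not at h'
    refine hcl ?_
    rw [← closure_eq_iff_isClosed]
    exact Set.Subset.antisymm (fun c hc => h' c (specializes_iff_mem_closure.2 hc)) subset_closure
  exact (hZ b z c hb hc).resolve_right (Ne.symm hcz)

theorem regular_of_maximal {Z : Scheme.{u}} [IsReduced Z] [IsLocallyNoetherian Z] {z : Z}
    (hz : ∀ b, b ⤳ z → b = z) : IsDomain (Z.presheaf.stalk z) ∧ IsRegularLocalRing (Z.presheaf.stalk z) := by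
  refine regular_domain_of_principal _ ?_
  have hp : ∀ q : Ideal (Z.presheaf.stalk z), q.IsPrime → q = IsLocalRing.maximalIdeal _ := fun q hq => by
    obtain ⟨x', h', rfl⟩ := exists_primeAt_eq z q
    obtain rfl := hz x' h'
    exact primeAt_self _ _
  have : IsLocalRing.maximalIdeal (Z.presheaf.stalk z) ≤ nilradical _ := by
    rw [nilradical_eq_sInf]
    exact le_sInf fun q hq => (hp q hq).ge
  rw [nilradical_eq_zero] at this
  rw [le_bot_iff.1 this]
  exact ⟨⟨0, Submodule.span_zero_singleton _ |>.symm⟩⟩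

variable {N X₀ : Scheme.{u}} (ν : N ⟶ X₀)

/-- An intermediate embedded model. -/
structure EStage where
  X : Scheme.{u}
  g : X ⟶ X₀
  seq : Resolve.IsPtBlowupSeq g
  Z : Scheme.{u}
  ι : Z ⟶ X
  closed : IsClosedImmersion ι
  red : IsReduced Z
  h : N ⟶ Z
  surj : Surjective h
  fac : h ≫ ι ≫ g = ν

variable {ν}

theorem EStage.le (P : EStage ν) (U : X₀.Opens) : ν ⁻¹ᵁ U ≤ P.h ⁻¹ᵁ ((P.ι ≫ P.g) ⁻¹ᵁ U) := by
  rw [← Scheme.Hom.comp_preimage, P.fac]

theorem EStage.eq (P : EStage ν) (U : X₀.Opens) : ν ⁻¹ᵁ U = P.h ⁻¹ᵁ ((P.ι ≫ P.g) ⁻¹ᵁ U) := by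
  rw [← Scheme.Hom.comp_preimage, P.fac]

/-- The sections of the model, inside those of `N`. -/
def EStage.sections (P : EStage ν) (U : X₀.Opens) :
    letI := (ν.app U).hom.toAlgebra
    Submodule Γ(X₀, U) Γ(N, ν ⁻¹ᵁ U) :=
  letI := (ν.app U).hom.toAlgebra
  { carrier := Set.range (P.h.appLE ((P.ι ≫ P.g) ⁻¹ᵁ U) (ν ⁻¹ᵁ U) (P.le U))
    add_mem' := by rintro _ _ ⟨a, rfl⟩ ⟨b, rfl⟩; exact ⟨a + b, map_add _ _ _⟩
    zero_mem' := ⟨0, map_zero _⟩
    smul_mem' := by
      rintro c _ ⟨a, rfl⟩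
      refine ⟨(P.ι ≫ P.g).app U c * a, ?_⟩
      rw [map_mul, Algebra.smul_def]
      congr 1
      show ((P.ι ≫ P.g).app U ≫ P.h.appLE ((P.ι ≫ P.g) ⁻¹ᵁ U) (ν ⁻¹ᵁ U) (P.le U)) c = ν.app U c
      rw [Scheme.Hom.app_eq_appLE, Scheme.Hom.appLE_comp_appLE, Scheme.Hom.app_eq_appLE]
      simp only [P.fac] }

theorem isFinite_of_surjective_comp {W Z S : Scheme.{u}} (h : W ⟶ Z) (r : Z ⟶ S) [Surjective h] [IsProper r]
    [IsFinite (h ≫ r)] : IsFinite r := by
  haveI : LocallyQuasiFinite r := locallyQuasiFinite_iff_finite_preimage_singleton.2 fun y => by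
    refine (((h ≫ r).finite_preimage_singleton y).image h).subset fun w hw => ?_
    obtain ⟨n, rfl⟩ := h.surjective w
    exact ⟨n, hw, rfl⟩
  exact IsFinite.of_isProper_of_locallyQuasiFinite _

theorem surjective_toImage {W Z : Scheme.{u}} (f : W ⟶ Z) [QuasiCompact f] (hc : IsClosed (Set.range f)) :
    Surjective f.toImage := ⟨by
  intro w
  have hw : f.imageι w ∈ (f.ker.support : Set Z) := by
    have : f.imageι w ∈ Set.range f.ker.subschemeι := ⟨w, rfl⟩
    rwa [Scheme.IdealSheafData.range_subschemeι] at this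
  rw [Scheme.Hom.support_ker] at hw
  obtain ⟨n, hn⟩ := hc.closure_eq ▸ hw
  exact ⟨n, f.imageι.isClosedEmbedding.injective (by rw [← Scheme.Hom.comp_apply, f.toImage_imageι]; exact hn)⟩⟩

theorem exists_embedded [IsNoetherian X₀] [IsFinite ν] [IsReduced N]
    (hN : ∀ n : N, IsDomain (N.presheaf.stalk n) ∧ IsPrincipalIdealRing (N.presheaf.stalk n))
    (hshort : Short N) (hmax : ∀ a : N, (∀ b, b ⤳ a → b = a) → ¬ IsClosed ({ν a} : Set X₀)) :
    ∃ P : EStage ν, ∀ z : P.Z, IsDomain (P.Z.presheaf.stalk z) ∧ IsRegularLocalRing (P.Z.presheaf.stalk z) := by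
  classical
  obtain ⟨t, ht⟩ := (isCompact_univ (X := X₀)).elim_finite_subcover (fun U : X₀.affineOpens => (U.1 : Set X₀))
    (fun U => U.1.2) (by
      intro y _
      obtain ⟨U, hU, hy⟩ := DivDesc12.exists_affine y
      exact Set.mem_iUnion.2 ⟨⟨U, hU⟩, hy⟩)
  letI alg : ∀ U : t, Algebra Γ(X₀, U.1.1) Γ(N, ν ⁻¹ᵁ U.1.1) := fun U => (ν.app U.1.1).hom.toAlgebra
  haveI : ∀ U : t, _root_.IsNoetherian Γ(X₀, U.1.1) Γ(N, ν ⁻¹ᵁ U.1.1) := fun U => by
    haveI : IsNoetherianRing Γ(X₀, U.1.1) := IsLocallyNoetherian.component_noetherian U.1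
    haveI : Module.Finite Γ(X₀, U.1.1) Γ(N, ν ⁻¹ᵁ U.1.1) := ν.finite_app U.1.1 U.1.2
    exact isNoetherian_of_isNoetherianRing_of_finite _ _
  let m : EStage ν → ∀ U : t, (Submodule Γ(X₀, U.1.1) Γ(N, ν ⁻¹ᵁ U.1.1))ᵒᵈ :=
    fun P U => OrderDual.toDual (P.sections U.1.1)
  suffices ∀ v, ∀ P : EStage ν, m P = v →
      ∃ P : EStage ν, ∀ z : P.Z, IsDomain (P.Z.presheaf.stalk z) ∧ IsRegularLocalRing (P.Z.presheaf.stalk z) by
    exact this _ ⟨X₀, 𝟙 X₀, Resolve.IsPtBlowupSeq.iso (Iso.refl X₀), ν.image, ν.imageι, inferInstance,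
      SchImage14.isReduced_image ν, ν.toImage, surjective_toImage ν ν.isClosedMap.isClosed_range,
      by rw [Category.comp_id, ν.toImage_imageι]⟩ rfl
  intro v
  induction v using WellFoundedLT.induction with
  | ind v ih =>
  rintro ⟨X, g, hseq, Z, ι, hclosed, hred, h, hsurj, hfac⟩ hv
  haveI := hclosed; haveI := hred; haveI := hsurj
  haveI : IsProper g := isProper_seq hseq
  haveI : IsProper (ι ≫ g) := inferInstance
  haveI : IsFinite (h ≫ ι ≫ g) := by rw [hfac]; infer_instance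
  haveI : IsFinite (ι ≫ g) := isFinite_of_surjective_comp h (ι ≫ g)
  haveI : IsFinite h := IsFinite.of_comp h (ι ≫ g)
  haveI : IsLocallyNoetherian X := LocallyOfFiniteType.isLocallyNoetherian g
  haveI : IsLocallyNoetherian Z := LocallyOfFiniteType.isLocallyNoetherian ι
  haveI : IsLocallyNoetherian N := LocallyOfFiniteType.isLocallyNoetherian ν
  by_cases hall : ∀ z : Z, IsDomain (Z.presheaf.stalk z) ∧ IsRegularLocalRing (Z.presheaf.stalk z)
  · exact ⟨⟨X, g, hseq, Z, ι, hclosed, hred, h, hsurj, hfac⟩, hall⟩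
  obtain ⟨z, hbad⟩ := not_forall.1 hall
  have hshortZ := short_image hshort h
  have hz : IsClosed ({z} : Set Z) := (isClosed_or_maximal hshortZ z).resolve_right fun hm => hbad (regular_of_maximal hm)
  have hx : IsClosed ({ι z} : Set X) := by
    rw [← Set.image_singleton]; exact ι.isClosedMap _ hz
  obtain ⟨X', b, hb⟩ : ∃ (X' : Scheme.{u}) (b : X' ⟶ X), BlowUp.IsBlowUp b (ptIdeal hx) :=
    ⟨_, _, BlowUpExist.ChartIdx.isBlowUp_blowUpHom (C := ptIdeal hx)⟩
  have hcart : BlowUp.IsEffCartierIdeal ((ptIdeal hx).comap (h ≫ ι)) := by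
    refine isEffCartierIdeal_of_reduced (isLocPrincipal_of_stI fun n => ?_) fun a ha hmem => ?_
    · haveI := (hN n).2
      exact IsPrincipalIdealRing.principal _
    · rw [Scheme.IdealSheafData.support_comap] at hmem
      have e : (h ≫ ι) a ∈ ((ptIdeal hx).support : Set X) := hmem
      rw [coe_support_ptIdeal hx, Set.mem_singleton_iff] at e
      refine hmax a ha ?_
      have e2 : ν a = g (ι z) := by
        rw [← hfac, ← Category.assoc, Scheme.Hom.comp_apply, e]
      rw [e2, ← Set.image_singleton]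
      exact g.isClosedMap _ hx
  obtain ⟨h'', hh'', -⟩ := hb.2 N (h ≫ ι) hcart
  haveI : IsProper b := PointBlowUp.isProper hx hb
  let k : N ⟶ pullback b ι := pullback.lift h'' h hh''
  haveI : IsProper (pullback.snd b ι) := MorphismProperty.pullback_snd _ _ inferInstance
  haveI : IsClosedImmersion (pullback.fst b ι) := MorphismProperty.pullback_fst _ _ inferInstance
  haveI : IsFinite k := by
    haveI : IsFinite (k ≫ pullback.snd b ι) := by rw [pullback.lift_snd]; infer_instance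
    exact IsFinite.of_comp k (pullback.snd b ι)
  let ι' : k.image ⟶ X' := k.imageι ≫ pullback.fst b ι
  let q : k.image ⟶ Z := k.imageι ≫ pullback.snd b ι
  have hq : k.toImage ≫ q = h := by
    show _ ≫ _ ≫ _ = _
    rw [← Category.assoc, k.toImage_imageι, pullback.lift_snd]
  have hw : ι' ≫ b = q ≫ ι := by
    show (_ ≫ _) ≫ _ = (_ ≫ _) ≫ _
    rw [Category.assoc, Category.assoc, pullback.condition]
  haveI hred' : IsReduced k.image := SchImage14.isReduced_image k
  haveI hsurj' : Surjective k.toImage := surjective_toImage k k.isClosedMap.isClosed_range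
  have hfac' : k.toImage ≫ ι' ≫ b ≫ g = ν := by
    rw [← Category.assoc ι', hw, Category.assoc, ← Category.assoc, hq, hfac]
  let P : EStage ν := ⟨X, g, hseq, Z, ι, hclosed, hred, h, hsurj, hfac⟩
  let P' : EStage ν := ⟨X', b ≫ g, Resolve.IsPtBlowupSeq.step b g (ι z) hx hb hseq, k.image, ι', inferInstance,
    hred', k.toImage, hsurj', hfac'⟩
  have hr : ι' ≫ b ≫ g = q ≫ ι ≫ g := by rw [← Category.assoc, hw, Category.assoc]
  have hpre : ∀ U : X₀.Opens, q ⁻¹ᵁ ((ι ≫ g) ⁻¹ᵁ U) = (ι' ≫ b ≫ g) ⁻¹ᵁ U := fun U => by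
    rw [hr]; rfl
  have hmono : ∀ U : X₀.Opens, ∀ a : Γ(Z, (ι ≫ g) ⁻¹ᵁ U),
      k.toImage.appLE ((ι' ≫ b ≫ g) ⁻¹ᵁ U) (ν ⁻¹ᵁ U) (P'.le U)
          (q.appLE ((ι ≫ g) ⁻¹ᵁ U) ((ι' ≫ b ≫ g) ⁻¹ᵁ U) (hpre U).ge a) =
        h.appLE ((ι ≫ g) ⁻¹ᵁ U) (ν ⁻¹ᵁ U) (P.le U) a := fun U a => by
    show (q.appLE _ _ (hpre U).ge ≫ k.toImage.appLE _ (ν ⁻¹ᵁ U) (P'.le U)) a = _
    rw [Scheme.Hom.appLE_comp_appLE]
    simp only [hq]
  refine ih (m P') ?_ P' rfl
  subst hv
  refine lt_of_le_of_ne (fun U => ?_) fun heq => ?_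
  · rintro _ ⟨a, rfl⟩
    exact ⟨q.appLE _ _ (hpre U.1.1).ge a, hmono U.1.1 a⟩
  haveI : IsFinite (q ≫ ι ≫ g) := by
    haveI : IsFinite (k.toImage ≫ q ≫ ι ≫ g) := by rw [← hr, hfac']; infer_instance
    exact isFinite_of_surjective_comp k.toImage (q ≫ ι ≫ g)
  haveI : IsFinite q := IsFinite.of_comp q (ι ≫ g)
  haveI : IsDominant k.toImage := inferInstance
  have hqs : ∀ U : t, Function.Surjective (q.app ((ι ≫ g) ⁻¹ᵁ U.1.1)) := fun U a' => by
    let a'' := k.image.presheaf.map (homOfLE (hpre U.1.1).ge).op a'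
    have hmem : k.toImage.appLE ((ι' ≫ b ≫ g) ⁻¹ᵁ U.1.1) (ν ⁻¹ᵁ U.1.1) (P'.le _) a'' ∈ P'.sections U.1.1 :=
      ⟨a'', rfl⟩
    rw [show P'.sections U.1.1 = P.sections U.1.1 from OrderDual.toDual.injective (congrFun heq U)] at hmem
    obtain ⟨a, ha⟩ := hmem
    refine ⟨a, ?_⟩
    have h1 : q.appLE _ _ (hpre U.1.1).ge a = a'' :=
      appLE_injective k.toImage (W := (ι' ≫ b ≫ g) ⁻¹ᵁ U.1.1) (P'.eq U.1.1) ((hmono U.1.1 a).trans ha)
    have h2 : Function.Injective (k.image.presheaf.map (homOfLE (hpre U.1.1).ge).op) := by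
      haveI : IsIso (homOfLE (hpre U.1.1).ge) := ⟨homOfLE (hpre U.1.1).le, Subsingleton.elim _ _, Subsingleton.elim _ _⟩
      exact (ConcreteCategory.bijective_of_isIso _).injective
    exact h2 h1
  haveI : IsClosedImmersion q := by
    refine (IsZariskiLocalAtTarget.iff_of_iSup_eq_top (P := @IsClosedImmersion) (fun U : t => (ι ≫ g) ⁻¹ᵁ U.1.1) ?_).2
      fun U => ?_
    · refine eq_top_iff.2 fun w _ => ?_
      obtain ⟨U, hU, hw'⟩ := Set.mem_iUnion₂.1 (ht (Set.mem_univ ((ι ≫ g) w)))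
      exact Opens.mem_iSup.2 ⟨⟨U, hU⟩, hw'⟩
    have hW : IsAffineOpen ((ι ≫ g) ⁻¹ᵁ U.1.1) := U.1.2.preimage (ι ≫ g)
    haveI : IsAffine ((ι ≫ g) ⁻¹ᵁ U.1.1 : Scheme) := hW
    refine (HasAffineProperty.iff_of_isAffine (P := @IsClosedImmersion)).2 ⟨hW.preimage q, ?_⟩
    exact appTop_surjective_of_app q _ (hqs U)
  haveI : Surjective q := ⟨fun w => by
    obtain ⟨n, hn⟩ := h.surjective w
    exact ⟨k.toImage n, by rw [← Scheme.Hom.comp_apply, hq]; exact hn⟩⟩
  haveI : IsIso q := isIso_of_isClosedImmersion_of_surjective q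
  have hlp : HTop.IsLocPrincipal ((ptIdeal hx).comap ι) := by
    have h1 : HTop.IsLocPrincipal ((ptIdeal hx).comap b) := fun x => by
      obtain ⟨U, hxU, f, -, hf⟩ := hb.1 x
      exact ⟨U, hxU, f, hf⟩
    have h2 := HTop26.isLocPrincipal_comap (HTop26.isLocPrincipal_comap h1 ι') (inv q)
    rwa [← Scheme.IdealSheafData.comap_comp, ← Scheme.IdealSheafData.comap_comp, Category.assoc, hw,
      IsIso.inv_hom_id_assoc] at h2
  refine hbad (regular_domain_of_principal _ ?_)
  obtain ⟨U, hzU, f, hf⟩ := hlp z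
  have e : IsLocalRing.maximalIdeal (Z.presheaf.stalk z) = stI ((ptIdeal hx).comap ι) z := by
    rw [DivDesc12.stI_comap, stI_ptIdeal hx]
    refine le_antisymm (fun a ha => ?_) (IsLocalRing.map_maximalIdeal_le _)
    obtain ⟨a', rfl⟩ := ι.stalkMap_surjective z a
    exact Ideal.mem_map_of_mem _ (fun hu => ha (hu.map _))
  rw [e, stI_eq _ U hzU, hf, Ideal.map_span, Set.image_singleton]
  exact ⟨⟨_, rfl⟩⟩

end Groth.Agent.CurveBlowUp
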