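import Groth.Agent.Lib.CurveBlowUp32.Embedded
import Groth.Agent.Lib.HTop25.Basic
import Groth.Agent.Lib.CurveNF.Basic
import Groth.Agent.Lib.AmpleFin18.Components
import Groth.Agent.Lib.NormFin18.Birational
import Groth.Prelude.Def_Curv2

/-!
# Several curves: disjoint regular strict transforms
-/

set_option autoImplicit false
set_option linter.style.haveILetI false
set_option linter.unusedSectionVars false
set_option backward.isDefEq.respectTransparency false
set_option maxHeartbeats 2000000

universe u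

open CategoryTheory CategoryTheory.Limits AlgebraicGeometry TopologicalSpace

noncomputable section

namespace Groth.Agent.CurveBlowUp

theorem isIso_restrict_of_section {N U Y : Scheme.{u}} (h : N ⟶ U) (r : U ⟶ Y) [IsSeparated r] [Surjective h]
    [IsReduced U] (V : Y.Opens) (hiso : IsIso ((h ≫ r) ∣_ V)) : IsIso (r ∣_ V) := by
  haveI := hiso
  rw [morphismRestrict_comp] at hiso
  haveI := hiso
  let c := h ∣_ (r ⁻¹ᵁ V)
  let s : (V : Scheme.{u}) ⟶ r ⁻¹ᵁ V := inv (c ≫ r ∣_ V) ≫ c
  have hs : s ≫ r ∣_ V = 𝟙 _ := by simp [s]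
  haveI : IsSeparated (r ∣_ V) := IsZariskiLocalAtTarget.restrict ‹_› V
  haveI : IsClosedImmersion s := by
    haveI : IsClosedImmersion (s ≫ r ∣_ V) := by rw [hs]; infer_instance
    exact IsClosedImmersion.of_comp s (r ∣_ V)
  haveI : Surjective c := IsZariskiLocalAtTarget.restrict ‹Surjective h› _
  haveI : Surjective s := inferInstanceAs (Surjective (inv (c ≫ r ∣_ V) ≫ c))
  haveI : IsIso s := isIso_of_isClosedImmersion_of_surjective s
  haveI : IsIso (s ≫ r ∣_ V) := by rw [hs]; infer_instance
  exact IsIso.of_isIso_comp_left s (r ∣_ V)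

variable {σ : Type u} [Finite σ]

/-- Embedded resolution of finitely many curves into disjoint regular curves. -/
theorem exists_disjoint_regular (X : Scheme.{u}) [IsNoetherian X] (I : σ → X.IdealSheafData)
    [∀ i, IsIntegral (I i).subscheme] (hdim : ∀ i, topologicalKrullDim ↥(I i).subscheme = 1)
    [∀ i, QuasiCompact ((I i).subscheme.fromSpecStalk (genericPoint ↥(I i).subscheme))]
    [∀ i, QuasiSeparated ((I i).subscheme.fromSpecStalk (genericPoint ↥(I i).subscheme))]
    (hfin : ∀ i, IsFinite (Curv2.normalizationι (I i).subscheme)) (hdist : Function.Injective I) :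
    ∃ (X' : Scheme.{u}) (g : X' ⟶ X), Resolve.IsPtBlowupSeq g ∧
      ∃ (I' : σ → X'.IdealSheafData) (g' : ∀ i, (I' i).subscheme ⟶ (I i).subscheme),
        (∀ i, IsIntegral (I' i).subscheme ∧ g' i ≫ (I i).subschemeι = (I' i).subschemeι ≫ g ∧
          (∃ V : (I i).subscheme.Opens, (V : Set ↥(I i).subscheme).Nonempty ∧ IsIso (g' i ∣_ V)) ∧
          ∀ y : ↥(I' i).subscheme, IsRegularLocalRing ((I' i).subscheme.presheaf.stalk y)) ∧
        ∀ i j, i ≠ j → Disjoint ((I' i).support : Set X') ((I' j).support : Set X') := by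
  classical
  let Y : σ → Scheme.{u} := fun i => (I i).subscheme
  let ρ : ∀ i, Spec (CommRingCat.of (Y i).functionField) ⟶ Y i := fun i => (Y i).fromSpecStalk (genericPoint (Y i))
  haveI : ∀ i, QuasiCompact (ρ i) := fun i => inferInstanceAs (QuasiCompact ((I i).subscheme.fromSpecStalk _))
  haveI : ∀ i, QuasiSeparated (ρ i) := fun i => inferInstanceAs (QuasiSeparated ((I i).subscheme.fromSpecStalk _))
  haveI hfin' : ∀ i, IsFinite (ρ i).fromNormalization := hfin
  have hid : ∀ i, ρ i = Spec.map (CommRingCat.ofHom (RingHom.id (Y i).functionField)) ≫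
      (Y i).fromSpecStalk (genericPoint (Y i)) := fun i => by simp [ρ]
  have hIN := fun i => CurveNF.isIntegral_and_normal (K := (Y i).functionField) (hid i)
  haveI : ∀ i, IsIntegral (ρ i).normalization := fun i => (hIN i).1
  haveI : ∀ i, IsLocallyNoetherian (Y i) := fun i => LocallyOfFiniteType.isLocallyNoetherian (I i).subschemeι
  haveI : ∀ i, IsLocallyNoetherian (ρ i).normalization := fun i =>
    LocallyOfFiniteType.isLocallyNoetherian (ρ i).fromNormalization
  have hd1 : ∀ i (n : (ρ i).normalization), ringKrullDim ((ρ i).normalization.presheaf.stalk n) ≤ 1 := fun i n =>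
    (VB17.ringKrullDim_stalk_le_topologicalKrullDim n).trans
      ((AlgSpDecent.topologicalKrullDim_le_of_lqf (ρ i).fromNormalization).trans (hdim i).le)
  let N : σ → Scheme.{u} := fun i => (ρ i).normalization
  let f : ∀ i, N i ⟶ X := fun i => (ρ i).fromNormalization ≫ (I i).subschemeι
  haveI : ∀ i, IsFinite (f i) := fun i => inferInstanceAs (IsFinite ((ρ i).fromNormalization ≫ (I i).subschemeι))
  haveI : IsFinite (Sigma.desc f) := HTop25.isFinite_sigmaDesc f
  haveI : ∀ i, IsIntegral (N i) := fun i => (hIN i).1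
  haveI hredN : IsReduced (∐ N) := by
    haveI : ∀ p : ↥(∐ N), _root_.IsReduced ((∐ N).presheaf.stalk p) := fun p => by
      obtain ⟨i, y, rfl⟩ := HTop25.exists_sigma_ι (Y := N) p
      exact isReduced_of_injective ((Sigma.ι N i).stalkMap y).hom (ConcreteCategory.bijective_of_isIso _).injective
    exact isReduced_of_isReduced_stalk _
  have hstalk : ∀ p : ↥(∐ N), IsDomain ((∐ N).presheaf.stalk p) ∧ IsPrincipalIdealRing ((∐ N).presheaf.stalk p) := by
    intro p
    obtain ⟨i, y, rfl⟩ := HTop25.exists_sigma_ι (Y := N) p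
    let e := (asIso ((Sigma.ι N i).stalkMap y)).commRingCatIsoToRingEquiv
    haveI : IsDomain ((N i).presheaf.stalk y) := ((hIN i).2 y).1
    haveI : IsIntegrallyClosed ((N i).presheaf.stalk y) := ((hIN i).2 y).2
    haveI := DVRVal.valuationRing_of_normal ((N i).presheaf.stalk y) (hd1 i y)
    have t : ValuationRing ((N i).presheaf.stalk y) ↔ IsPrincipalIdealRing ((N i).presheaf.stalk y) :=
      (tfae_of_isNoetherianRing_of_isLocalRing_of_isDomain _).out 1 0
    haveI : IsPrincipalIdealRing ((N i).presheaf.stalk y) := t.1 inferInstance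
    exact ⟨e.toMulEquiv.isDomain _, IsPrincipalIdealRing.of_surjective e.symm.toRingHom e.symm.surjective⟩
  have hgeny : ∀ (i : σ) (y : N i) (b : ↥(∐ N)), b ⤳ Sigma.ι N i y → ∃ y', y' ⤳ y ∧ Sigma.ι N i y' = b := by
    intro i y b hb
    obtain ⟨y', rfl⟩ := hb.mem_open (Sigma.ι N i).isOpenEmbedding.isOpen_range ⟨y, rfl⟩
    exact ⟨y', (Sigma.ι N i).isOpenEmbedding.isInducing.specializes_iff.1 hb, rfl⟩
  have hshort : Short (∐ N) := by
    intro a b c hab hbc
    obtain ⟨i, yc, rfl⟩ := HTop25.exists_sigma_ι (Y := N) c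
    obtain ⟨yb, hyb, rfl⟩ := hgeny i yc b hbc
    obtain ⟨ya, hya, rfl⟩ := hgeny i yb a hab
    by_contra h'
    push Not at h'
    have h2 := PointBlowUp.two_le_ringKrullDim_stalk hya hyb (fun e => h'.1 (by rw [e])) (fun e => h'.2 (by rw [e]))
    exact absurd (h2.trans (hd1 i yc)) (by decide)
  have hηI : ∀ i, ¬ IsClosed ({(I i).subschemeι (genericPoint (Y i))} : Set X) := fun i hc => by
    refine not_isClosed_generic (hdim i) ?_
    have h := hc.preimage (I i).subschemeι.continuous
    rwa [← Set.image_singleton, Set.preimage_image_eq _ (I i).subschemeι.isClosedEmbedding.injective] at h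
  have hfgen : ∀ i, f i (genericPoint (N i)) = (I i).subschemeι (genericPoint (Y i)) := fun i => by
    show (I i).subschemeι ((ρ i).fromNormalization (genericPoint (N i))) = _
    rw [CurveNF.fromNormalization_genericPoint (K := (Y i).functionField) (hid i)]
  have hmax : ∀ a : ↥(∐ N), (∀ b, b ⤳ a → b = a) → ¬ IsClosed ({Sigma.desc f a} : Set X) := by
    intro a ha
    obtain ⟨i, y, rfl⟩ := HTop25.exists_sigma_ι (Y := N) a
    have hy : genericPoint (N i) = y := (Sigma.ι N i).isOpenEmbedding.injective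
      (ha _ ((genericPoint_specializes y).map (Sigma.ι N i).continuous))
    rw [← Scheme.Hom.comp_apply, Sigma.ι_desc, ← hy, hfgen]
    exact hηI i
  obtain ⟨P, hP⟩ := exists_embedded (ν := Sigma.desc f) hstalk hshort hmax
  obtain ⟨X', g, hseq, Z, ι, hclosed, hred, h, hsurj, hfac⟩ := P
  haveI := hclosed; haveI := hred; haveI := hsurj
  haveI : IsProper g := isProper_seq hseq
  haveI : IsFinite (h ≫ ι ≫ g) := by rw [hfac]; infer_instance
  haveI : IsFinite h := IsFinite.of_comp h (ι ≫ g)
  have hshortZ := short_image hshort h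
  let hi : ∀ i, N i ⟶ Z := fun i => Sigma.ι N i ≫ h
  have hfi : ∀ i, hi i ≫ ι ≫ g = f i := fun i => by
    show (_ ≫ _) ≫ _ = _
    rw [Category.assoc, hfac, Sigma.ι_desc]
  haveI : ∀ i, IsFinite (hi i) := fun i => by
    haveI : IsFinite (hi i ≫ ι ≫ g) := by rw [hfi]; infer_instance
    exact IsFinite.of_comp (hi i) (ι ≫ g)
  let R : σ → Set Z := fun i => Set.range (hi i)
  have hRc : ∀ i, IsClosed (R i) := fun i => (hi i).isClosedMap.isClosed_range
  have hcov : ∀ z : Z, ∃ i, z ∈ R i := fun z => by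
    obtain ⟨p, rfl⟩ := h.surjective z
    obtain ⟨i, y, rfl⟩ := HTop25.exists_sigma_ι (Y := N) p
    exact ⟨i, y, rfl⟩
  let ξ : σ → Z := fun i => hi i (genericPoint (N i))
  have hgξ : ∀ i, (ι ≫ g) (ξ i) = (I i).subschemeι (genericPoint (Y i)) := fun i => by
    show (hi i ≫ ι ≫ g) _ = _
    rw [hfi, hfgen]
  have hξmax : ∀ i b, b ⤳ ξ i → b = ξ i := fun i => (isClosed_or_maximal hshortZ (ξ i)).resolve_left fun hc => by
    refine hηI i ?_
    rw [← hgξ i, ← Set.image_singleton]
    exact (ι ≫ g).isClosedMap _ hc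
  have hdisj : ∀ i j, i ≠ j → Disjoint (R i) (R j) := by
    intro i j hij
    rw [Set.disjoint_left]
    rintro _ ⟨a, rfl⟩ ⟨b, hb⟩
    haveI := (hP (hi i a)).1
    obtain ⟨x', hx', hbot⟩ := DivDesc12.exists_primeAt_eq (hi i a) (⊥ : Ideal _)
    have key : ∀ k, ξ k ⤳ hi i a → x' = ξ k := fun k hk =>
      hξmax k x' (DivDesc12.specializes_of_primeAt_le hk hx' (hbot ▸ bot_le))
    have e : ξ i = ξ j := (key i ((genericPoint_specializes a).map (hi i).continuous)).symm.trans
      (key j (hb ▸ (genericPoint_specializes b).map (hi j).continuous))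
    refine hij (hdist ?_)
    have e' : (I i).subschemeι (genericPoint (Y i)) = (I j).subschemeι (genericPoint (Y j)) := by
      rw [← hgξ, ← hgξ, e]
    have hker : ∀ k, I k = Scheme.IdealSheafData.vanishingIdeal
        ⟨closure {(I k).subschemeι (genericPoint (Y k))}, isClosed_closure⟩ := fun k => by
      conv_lhs => rw [← (I k).ker_subschemeι, RedSepLib.ker_eq_vanishingIdeal]
      congr 1
      refine Closeds.ext ?_
      show closure (Set.range (I k).subschemeι) = closure _
      refine Set.Subset.antisymm (closure_minimal ?_ isClosed_closure)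
        (closure_mono (Set.singleton_subset_iff.2 ⟨_, rfl⟩))
      rintro _ ⟨y, rfl⟩
      exact specializes_iff_mem_closure.1 ((genericPoint_specializes y).map (I k).subschemeι.continuous)
    rw [hker i, hker j]
    simp only [e']
  have hRo : ∀ i, IsOpen (R i) := fun i => by
    have : R i = (⋃ j : {j // j ≠ i}, R j.1)ᶜ := by
      ext z
      simp only [Set.mem_compl_iff, Set.mem_iUnion, not_exists]
      refine ⟨fun hz j hzj => Set.disjoint_left.1 (hdisj j.1 i j.2) hzj hz, fun hz => ?_⟩
      obtain ⟨j, hj⟩ := hcov z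
      by_cases hji : j = i
      · exact hji ▸ hj
      · exact absurd hj (hz ⟨j, hji⟩)
    rw [this]
    exact (isClosed_iUnion_of_finite fun j => hRc _).isOpen_compl
  let U : σ → Z.Opens := fun i => ⟨R i, hRo i⟩
  haveI : ∀ i, IsClosedImmersion (U i).ι := fun i =>
    IsClosedImmersion.of_isPreimmersion _ (by rw [Scheme.Opens.range_ι]; exact hRc i)
  let j : ∀ i, (U i : Scheme.{u}) ⟶ X' := fun i => (U i).ι ≫ ι
  haveI : ∀ i, IsClosedImmersion (j i) := fun i => inferInstanceAs (IsClosedImmersion (_ ≫ _))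
  let hU : ∀ i, N i ⟶ U i := fun i => IsOpenImmersion.lift (U i).ι (hi i) (by rw [Scheme.Opens.range_ι]; exact subset_rfl)
  have hUι : ∀ i, hU i ≫ (U i).ι = hi i := fun i => IsOpenImmersion.lift_fac _ _ _
  haveI : ∀ i, Surjective (hU i) := fun i => ⟨fun w => by
    obtain ⟨a, ha⟩ := (show (U i).ι w ∈ R i from w.2)
    exact ⟨a, (U i).ι.isOpenEmbedding.injective (by rw [← Scheme.Hom.comp_apply, hUι]; exact ha)⟩⟩
  haveI : ∀ i, IsIntegral (U i : Scheme.{u}) := fun i => by
    haveI : IsReduced (U i : Scheme.{u}) := isReduced_of_isOpenImmersion (U i).ι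
    haveI : IrreducibleSpace (U i : Scheme.{u}) := (hU i).surjective.irreducibleSpace (hU i).continuous
    exact isIntegral_of_irreducibleSpace_of_isReduced _
  have hrange : ∀ i, Set.range (j i ≫ g) ⊆ ((I i).support : Set X) := fun i => by
    rintro _ ⟨w, rfl⟩
    obtain ⟨a, rfl⟩ := (hU i).surjective w
    rw [← Scheme.IdealSheafData.range_subschemeι]
    refine ⟨(ρ i).fromNormalization a, ?_⟩
    show ((ρ i).fromNormalization ≫ (I i).subschemeι) a = (hU i ≫ (U i).ι ≫ ι ≫ g) a
    rw [reassoc_of% hUι i, hfi]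
  choose r hr using fun i => AmpleFin18.exists_lift_of_range_subset (j i ≫ g) (I i) (hrange i)
  haveI : ∀ i, IsIso (j i).toImage := fun i => inferInstance
  refine ⟨X', g, hseq, fun i => (j i).ker, fun i => inv (j i).toImage ≫ r i, fun i => ⟨?_, ?_, ?_, ?_⟩, fun i k hik => ?_⟩
  · haveI : Nonempty (j i).image := ⟨(j i).toImage (genericPoint (U i : Scheme.{u}))⟩
    exact isIntegral_of_isOpenImmersion (inv (j i).toImage)
  · rw [Category.assoc, hr, IsIso.inv_comp_eq, ← Category.assoc]
    congr 1
    exact (j i).toImage_imageι.symm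
  · obtain ⟨V, hV, hiso⟩ := NormFin18.exists_isIso_restrict (X := Y i) (hid i)
    refine ⟨V, hV, ?_⟩
    haveI : IsSeparated (r i) := by
      haveI : IsSeparated (r i ≫ (I i).subschemeι) := by rw [hr]; infer_instance
      exact IsSeparated.of_comp (r i) (I i).subschemeι
    have hri : hU i ≫ r i = (ρ i).fromNormalization := by
      rw [← cancel_mono (I i).subschemeι, Category.assoc, hr]
      show hU i ≫ ((U i).ι ≫ ι) ≫ g = f i
      rw [Category.assoc, reassoc_of% hUι i, hfi]
    haveI := isIso_restrict_of_section (hU i) (r i) V (by rw [hri]; exact hiso)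
    rw [morphismRestrict_comp]
    infer_instance
  · intro y
    let φ := inv (j i).toImage ≫ (U i).ι
    haveI := (hP (φ y)).2
    exact IsRegularLocalRing.of_ringEquiv (asIso (φ.stalkMap y)).commRingCatIsoToRingEquiv
  · have hs : ∀ l, ((j l).ker.support : Set X') = ι '' R l := fun l => by
      rw [Scheme.Hom.support_ker]
      show closure (Set.range ((U l).ι ≫ ι)) = _
      rw [(j l).isClosedEmbedding.isClosed_range.closure_eq, Scheme.Hom.comp_base, TopCat.coe_comp, Set.range_comp,
        Scheme.Opens.range_ι]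
      rfl
    rw [hs, hs]
    exact Set.disjoint_image_of_injective ι.isClosedEmbedding.injective (hdisj i k hik)

end Groth.Agent.CurveBlowUp
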